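import Groth.Agent.Lib.DVRVal.Univ

/-!
# Quasi-compact opens of a base change to an algebra come from a finitely generated subalgebra
-/

universe u

open CategoryTheory CategoryTheory.Limits AlgebraicGeometry TopologicalSpace
open scoped TensorProduct

namespace Groth.Agent.QcOpen18

variable {k : Type u} [CommRing k] {X : Scheme.{u}} (f : X ⟶ Spec (CommRingCat.of k))

/-- The base change to an algebra. -/
noncomputable abbrev bcA (A : Type u) [CommRing A] [Algebra k A] : Scheme.{u} :=
  pullback f (Spec.map (CommRingCat.ofHom (algebraMap k A)))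

variable {C : Type u} [CommRing C] [Algebra k C] (u : Spec (CommRingCat.of C) ⟶ X)
  (hu : u ≫ f = Spec.map (CommRingCat.ofHom (algebraMap k C)))

/-- A chart of the base change. -/
noncomputable def chart (A : Type u) [CommRing A] [Algebra k A] :
    Spec (CommRingCat.of (C ⊗[k] A)) ⟶ bcA f A :=
  (pullbackSpecIso k C A).inv ≫ pullback.map _ _ _ _ u (𝟙 _) (𝟙 _) (by rw [Category.comp_id, hu]) (by simp)

instance [IsOpenImmersion u] (A : Type u) [CommRing A] [Algebra k A] : IsOpenImmersion (chart f u hu A) := by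
  unfold chart; infer_instance

theorem chart_fst (A : Type u) [CommRing A] [Algebra k A] :
    chart f u hu A ≫ pullback.fst _ _ =
      Spec.map (CommRingCat.ofHom (algebraMap C (C ⊗[k] A))) ≫ u := by
  rw [chart, Category.assoc]
  erw [pullback.lift_fst]
  rw [reassoc_of% (pullbackSpecIso_inv_fst k C A)]

theorem chart_snd (A : Type u) [CommRing A] [Algebra k A] :
    chart f u hu A ≫ pullback.snd _ _ =
      Spec.map (CommRingCat.ofHom (Algebra.TensorProduct.includeRight : A →ₐ[k] C ⊗[k] A).toRingHom) := by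
  rw [chart, Category.assoc]
  erw [pullback.lift_snd]
  rw [Category.comp_id, pullbackSpecIso_inv_snd k C A]
  rfl

theorem range_chart (A : Type u) [CommRing A] [Algebra k A] :
    Set.range (chart f u hu A) = pullback.fst f (Spec.map (CommRingCat.ofHom (algebraMap k A))) ⁻¹' Set.range u := by
  unfold chart
  rw [Scheme.Hom.comp_base, TopCat.coe_comp, Set.range_comp, Set.range_eq_univ.mpr, Set.image_univ,
    Scheme.Pullback.range_map]
  · have : Set.range (𝟙 (Spec (CommRingCat.of A)) : _ ⟶ _) = Set.univ :=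
      Set.range_eq_univ.mpr fun y => ⟨y, rfl⟩
    rw [this, Set.preimage_univ, Set.inter_univ]
  · exact (pullbackSpecIso k C A).inv.homeomorph.surjective

variable {A : Type u} [CommRing A] [Algebra k A]

theorem chart_comp (A' : Subalgebra k A) (π : bcA f A ⟶ bcA f A')
    (h₁ : π ≫ pullback.fst _ _ = pullback.fst _ _)
    (h₂ : π ≫ pullback.snd _ _ = pullback.snd _ _ ≫ Spec.map (CommRingCat.ofHom A'.val.toRingHom)) :
    chart f u hu A ≫ π =
      Spec.map (CommRingCat.ofHom (Algebra.TensorProduct.map (AlgHom.id k C) A'.val).toRingHom) ≫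
        chart f u hu A' := by
  apply pullback.hom_ext
  · rw [Category.assoc, h₁, chart_fst, Category.assoc, chart_fst, ← Spec.map_comp_assoc]
    congr 2
  · rw [Category.assoc, h₂, reassoc_of% (chart_snd f u hu A), Category.assoc, chart_snd,
      ← Spec.map_comp, ← Spec.map_comp]
    congr 1

/-- A quasi-compact open of the base change is the preimage of one over a finitely generated subalgebra. -/
theorem exists_descent (V : Set (bcA f A)) (hV : IsOpen V) (hVc : IsCompact V) :
    ∃ S : Finset A, ∀ A' : Subalgebra k A, (S : Set A) ⊆ A' →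
      ∃ V' : Set (bcA f A'), IsOpen V' ∧ IsCompact V' ∧
        ∀ π : bcA f A ⟶ bcA f A', π ≫ pullback.fst _ _ = pullback.fst _ _ →
          π ≫ pullback.snd _ _ = pullback.snd _ _ ≫ Spec.map (CommRingCat.ofHom A'.val.toRingHom) →
            π.base ⁻¹' V' = V := by
  classical
  have loc : ∀ v : V, ∃ (S : Finset A) (N : Set (bcA f A)), IsOpen N ∧ v.1 ∈ N ∧ N ⊆ V ∧
      ∀ A' : Subalgebra k A, (S : Set A) ⊆ A' → ∃ W : Set (bcA f A'), IsOpen W ∧ IsCompact W ∧
        ∀ π : bcA f A ⟶ bcA f A', π ≫ pullback.fst _ _ = pullback.fst _ _ →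
          π ≫ pullback.snd _ _ = pullback.snd _ _ ≫ Spec.map (CommRingCat.ofHom A'.val.toRingHom) →
            π.base ⁻¹' W = N := by
    rintro ⟨v, hv⟩
    obtain ⟨U, hU, hxU, -⟩ :=
      exists_isAffineOpen_mem_and_subset (X := X) (x := pullback.fst f _ v) (U := ⊤) trivial
    haveI : IsOpenImmersion hU.fromSpec := IsAffineOpen.isOpenImmersion_fromSpec hU
    letI : Algebra k Γ(X, U) := (Spec.preimage (hU.fromSpec ≫ f)).hom.toAlgebra
    have hu : hU.fromSpec ≫ f = Spec.map (CommRingCat.ofHom (algebraMap k Γ(X, U))) := by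
      change _ = Spec.map (Spec.preimage (hU.fromSpec ≫ f))
      rw [Spec.map_preimage]
    obtain ⟨p, rfl⟩ : v ∈ Set.range (chart f hU.fromSpec hu A) := by
      rw [range_chart, hU.range_fromSpec]; exact hxU
    obtain ⟨_, ⟨h, rfl⟩, hph, hhV⟩ := PrimeSpectrum.isTopologicalBasis_basic_opens.exists_subset_of_mem_open
      (show p ∈ chart f hU.fromSpec hu A ⁻¹' V from hv) (hV.preimage (Scheme.Hom.continuous _))
    obtain ⟨S, hS⟩ := DVRVal.exists_finset_mem_range h
    refine ⟨S, chart f hU.fromSpec hu A '' (PrimeSpectrum.basicOpen h : Set (PrimeSpectrum _)),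
      (chart f hU.fromSpec hu A).isOpenEmbedding.isOpenMap _ (PrimeSpectrum.basicOpen h).2,
      ⟨p, hph, rfl⟩, Set.image_subset_iff.2 hhV, fun A' hA' => ?_⟩
    obtain ⟨h', rfl⟩ := hS A' hA'
    refine ⟨chart f hU.fromSpec hu A' '' (PrimeSpectrum.basicOpen h' : Set (PrimeSpectrum _)),
      (chart f hU.fromSpec hu A').isOpenEmbedding.isOpenMap _ (PrimeSpectrum.basicOpen h').2,
      (PrimeSpectrum.isCompact_basicOpen h').image (chart f hU.fromSpec hu A').continuous,
      fun π h₁ h₂ => ?_⟩
    have hcomm (p' : ↥(Spec (CommRingCat.of (Γ(X, U) ⊗[k] A)))) :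
        π (chart f hU.fromSpec hu A p') = chart f hU.fromSpec hu A'
          (Spec.map (CommRingCat.ofHom (Algebra.TensorProduct.map (AlgHom.id k Γ(X, U)) A'.val).toRingHom) p') :=
      congrArg (fun φ : _ ⟶ bcA f A' => φ p') (chart_comp f hU.fromSpec hu A' π h₁ h₂)
    ext q
    constructor
    · rintro ⟨p'', hp'', e⟩
      obtain ⟨p', rfl⟩ : q ∈ Set.range (chart f hU.fromSpec hu A) := by
        have hq : π q ∈ Set.range (chart f hU.fromSpec hu A') := ⟨p'', e⟩
        rw [range_chart] at hq ⊢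
        rw [Set.mem_preimage, ← h₁, Scheme.Hom.comp_apply]
        exact hq
      rw [hcomm] at e
      have := (chart f hU.fromSpec hu A').isOpenEmbedding.injective e
      rw [this] at hp''
      exact ⟨p', hp'', rfl⟩
    · rintro ⟨p', hp', rfl⟩
      exact ⟨_, hp', (hcomm p').symm⟩
  choose S N hNo hvN hNV hS using loc
  obtain ⟨T, hT⟩ := hVc.elim_finite_subcover N hNo
    (fun v hv => Set.mem_iUnion.2 ⟨⟨v, hv⟩, hvN ⟨v, hv⟩⟩)
  refine ⟨T.biUnion S, fun A' hA' => ?_⟩
  choose W hWo hWc hW using fun v : T => hS v.1 A'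
    ((Finset.coe_subset.2 (Finset.subset_biUnion_of_mem S v.2)).trans hA')
  refine ⟨⋃ v, W v, isOpen_iUnion hWo, isCompact_iUnion hWc, fun π h₁ h₂ => ?_⟩
  rw [Set.preimage_iUnion]
  simp only [hW _ π h₁ h₂]
  refine subset_antisymm (Set.iUnion_subset fun v => hNV v.1) fun x hx => ?_
  obtain ⟨v, hv, hxv⟩ := Set.mem_iUnion₂.1 (hT hx)
  exact Set.mem_iUnion.2 ⟨⟨v, hv⟩, hxv⟩

end Groth.Agent.QcOpen18
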